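import Mathlib

/-! Products of dense subsets over a field. -/

set_option autoImplicit false
universe u
open CategoryTheory CategoryTheory.Limits AlgebraicGeometry

namespace Groth.Agent.FieldDense

variable {K A B X₁ X₂ : Scheme.{u}} (fA : A ⟶ K) (fB : B ⟶ K)
  (g₁ : X₁ ⟶ A) (g₂ : X₂ ⟶ B)

/-- If two points lie in the closures of images, so does a point of the product over them. -/
theorem mem_closure_range_map (hK : ∀ {X : Scheme.{u}} (f : X ⟶ K), UniversallyOpen f) (p : ↑(pullback fA fB))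
    (h₁ : pullback.fst fA fB p ∈ closure (Set.range g₁))
    (h₂ : pullback.snd fA fB p ∈ closure (Set.range g₂)) :
    p ∈ closure (Set.range (pullback.map (g₁ ≫ fA) (g₂ ≫ fB) fA fB g₁ g₂ (𝟙 _) (by simp) (by simp))) := by
  classical
  have := hK fA; have := hK fB; have := hK (g₁ ≫ fA)
  let I := Scheme.IdealSheafData.vanishingIdeal (X := B) ⟨closure (Set.range g₂), isClosed_closure⟩
  have hI : Set.range I.subschemeι = closure (Set.range g₂) := by
    rw [Scheme.IdealSheafData.range_subschemeι, Scheme.IdealSheafData.coe_support_vanishingIdeal]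
    rfl
  rw [mem_closure_iff]
  intro W hW hpW
  obtain ⟨c, hc⟩ : pullback.snd fA fB p ∈ Set.range I.subschemeι := hI ▸ h₂
  let m := pullback.map fA (I.subschemeι ≫ fB) fA fB (𝟙 A) I.subschemeι (𝟙 _) (by simp) (by simp)
  have hm1 : m ≫ pullback.fst fA fB = pullback.fst fA (I.subschemeι ≫ fB) := (pullback.lift_fst _ _ _).trans (Category.comp_id _)
  have hm2 : m ≫ pullback.snd fA fB = pullback.snd fA (I.subschemeι ≫ fB) ≫ I.subschemeι := pullback.lift_snd _ _ _
  -- lift `p` to the product with the closed subscheme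
  have hp : p ∈ Set.range m := by
    rw [Scheme.Pullback.range_map]
    exact ⟨⟨_, rfl⟩, ⟨c, hc⟩⟩
  obtain ⟨p', rfl⟩ := hp
  have := hK (I.subschemeι ≫ fB)
  have : UniversallyOpen (pullback.fst fA (I.subschemeι ≫ fB)) :=
    MorphismProperty.pullback_fst _ _ inferInstance
  obtain ⟨a, ⟨q', hq', rfl⟩, x₁, hx₁⟩ := mem_closure_iff.1 h₁ _
    ((pullback.fst fA (I.subschemeι ≫ fB)).isOpenMap _ (hW.preimage m.continuous))
    ⟨p', hpW, by rw [← Scheme.Hom.comp_apply, ← hm1, Scheme.Hom.comp_apply]⟩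
  -- move to the product with the source of `g₁`
  let n := pullback.map (g₁ ≫ fA) fB fA fB g₁ (𝟙 B) (𝟙 _) (by simp) (by simp)
  have hq : m q' ∈ Set.range n := by
    rw [Scheme.Pullback.range_map]
    exact ⟨⟨x₁, by rw [← Scheme.Hom.comp_apply m, hm1, hx₁]⟩, ⟨_, rfl⟩⟩
  obtain ⟨r, hr⟩ := hq
  have hn2 : n ≫ pullback.snd fA fB = pullback.snd (g₁ ≫ fA) fB := (pullback.lift_snd _ _ _).trans (Category.comp_id _)
  obtain ⟨b, ⟨r', hr', rfl⟩, x₂, hx₂⟩ := mem_closure_iff.1 (show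
      pullback.snd (g₁ ≫ fA) fB r ∈ closure (Set.range g₂) by
        rw [← hn2, Scheme.Hom.comp_apply, hr, ← Scheme.Hom.comp_apply, hm2, Scheme.Hom.comp_apply, ← hI]
        exact ⟨_, rfl⟩) _
    ((pullback.snd (g₁ ≫ fA) fB).isOpenMap _ (hW.preimage n.continuous)) ⟨r, show n r ∈ W from hr ▸ hq', rfl⟩
  let l := pullback.map (g₁ ≫ fA) (g₂ ≫ fB) (g₁ ≫ fA) fB (𝟙 X₁) g₂ (𝟙 _) (by simp) (by simp)
  have hl : r' ∈ Set.range l := by
    rw [Scheme.Pullback.range_map]
    exact ⟨⟨_, rfl⟩, ⟨x₂, hx₂⟩⟩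
  obtain ⟨z, hz⟩ := hl
  refine ⟨_, hr', z, ?_⟩
  have e : pullback.map (g₁ ≫ fA) (g₂ ≫ fB) fA fB g₁ g₂ (𝟙 _) (by simp) (by simp) = l ≫ n := by
    have l1 : l ≫ pullback.fst (g₁ ≫ fA) fB = pullback.fst (g₁ ≫ fA) (g₂ ≫ fB) :=
      (pullback.lift_fst _ _ _).trans (Category.comp_id _)
    have l2 : l ≫ pullback.snd (g₁ ≫ fA) fB = pullback.snd (g₁ ≫ fA) (g₂ ≫ fB) ≫ g₂ :=
      pullback.lift_snd _ _ _
    have n1 : n ≫ pullback.fst fA fB = pullback.fst (g₁ ≫ fA) fB ≫ g₁ := pullback.lift_fst _ _ _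
    apply pullback.hom_ext
    · refine (pullback.lift_fst _ _ _).trans ?_
      rw [Category.assoc, n1, ← Category.assoc, l1]
    · refine (pullback.lift_snd _ _ _).trans ?_
      rw [Category.assoc, hn2, l2]
  rw [← hz, e, Scheme.Hom.comp_apply]

theorem universallyOpen_of_iso {U : Scheme.{u}} (k : Type u) [Field k]
    (e : U ≅ Spec (CommRingCat.of k)) {X : Scheme.{u}} (f : X ⟶ U) : UniversallyOpen f := by
  have h : UniversallyOpen ((f ≫ e.hom) ≫ e.inv) := inferInstance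
  simpa using h

end Groth.Agent.FieldDense
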